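/-
Inverse limits of finite length modules commute with tensoring by finitely presented modules.
-/
import Mathlib

set_option autoImplicit false
set_option backward.isDefEq.respectTransparency false

universe u

open CategoryTheory Limits MonoidalCategory TensorProduct

namespace LimTensorLib

variable {R : Type u} [CommRing R]

/-- Compatible cosets in an inverse system of artinian modules have a compatible element. -/
theorem exists_compatible {V : ℕ → Type u} [∀ n, AddCommGroup (V n)] [∀ n, Module R (V n)]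
    [∀ n, IsArtinian R (V n)] (t : ∀ n m, n ≤ m → (V m →ₗ[R] V n))
    (ht₁ : ∀ n x, t n n le_rfl x = x)
    (ht : ∀ n m l (h : n ≤ m) (h' : m ≤ l) x, t n m h (t m l h' x) = t n l (h.trans h') x)
    (W : ∀ n, Submodule R (V n)) (X : ∀ n, Set (V n)) (hne : ∀ n, (X n).Nonempty)
    (hX : ∀ n x y, x ∈ X n → (y ∈ X n ↔ y - x ∈ W n))
    (hmap : ∀ n m h x, x ∈ X m → t n m h x ∈ X n) :
    ∃ y : ∀ n, V n, (∀ n, y n ∈ X n) ∧ ∀ n m h, t n m h (y m) = y n := by
  have hW : ∀ n m h w, w ∈ W m → t n m h w ∈ W n := fun n m h w hw => by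
    obtain ⟨x, hx⟩ := hne m
    have := (hX n _ (t n m h (x + w)) (hmap n m h x hx)).1
      (hmap n m h _ ((hX m x _ hx).2 (by simpa using hw)))
    simpa using this
  let I : ∀ n, ℕ →o (Submodule R (V n))ᵒᵈ := fun n =>
    ⟨fun k => OrderDual.toDual ((W (n + k)).map (t n (n + k) (by omega))), fun k l hkl => by
      show (W (n + l)).map (t n (n + l) (by omega)) ≤ (W (n + k)).map (t n (n + k) (by omega))
      rintro _ ⟨w, hw, rfl⟩
      exact ⟨t (n + k) (n + l) (by omega) w, hW _ _ _ w hw, ht _ _ _ _ _ w⟩⟩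
  choose N hN using fun n => IsArtinian.monotone_stabilizes (I n)
  let Y : ∀ n, Set (V n) := fun n => t n (n + N n) (by omega) '' X (n + N n)
  have key : ∀ n m, n + N n ≤ m → ∀ y ∈ Y n, ∃ x ∈ X m, ∀ h, t n m h x = y := by
    rintro n m hm _ ⟨x, hx, rfl⟩
    obtain ⟨k, rfl⟩ : ∃ k, m = n + k := ⟨m - n, by omega⟩
    obtain ⟨x', hx'⟩ := hne (n + k)
    have h1 := (hX _ _ x (hmap (n + N n) (n + k) hm x' hx')).1 hx
    have h2 : t n (n + N n) (by omega) (x - t (n + N n) (n + k) hm x') ∈
        (W (n + N n)).map (t n (n + N n) (by omega)) := ⟨_, h1, rfl⟩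
    rw [show (W (n + N n)).map (t n (n + N n) (by omega)) =
      (W (n + k)).map (t n (n + k) (by omega)) from hN n k (by omega)] at h2
    obtain ⟨w, hw, hw'⟩ := h2
    refine ⟨x' + w, (hX _ _ _ hx').2 (by simpa using hw), fun h => ?_⟩
    rw [map_add, hw', map_sub, ht]
    abel
  have step : ∀ n, ∀ y ∈ Y n, ∃ z ∈ Y (n + 1), t n (n + 1) (by omega) z = y := by
    intro n y hy
    obtain ⟨x, hx, hxy⟩ := key n (max (n + N n) (n + 1 + N (n + 1))) (le_max_left _ _) y hy
    refine ⟨t (n + 1) _ (by omega) x, ⟨t (n + 1 + N (n + 1)) _ (le_max_right _ _) x,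
      hmap _ _ _ x hx, ht _ _ _ _ _ x⟩, ?_⟩
    rw [ht]
    exact hxy _
  have hY0 : (Y 0).Nonempty := (hne _).image _
  choose z hz hz' using step
  let y' : ∀ n, {v : V n // v ∈ Y n} := fun n =>
    Nat.rec ⟨hY0.some, hY0.some_mem⟩ (fun n v => ⟨z n v.1 v.2, hz n v.1 v.2⟩) n
  have hcomp : ∀ n m h, t n m h (y' m).1 = (y' n).1 := by
    intro n m h
    induction m, h using Nat.le_induction with
    | base => exact ht₁ _ _
    | succ m h ih =>
      rw [← ih, ← ht n m (m + 1) h (by omega)]
      exact congrArg _ (hz' m (y' m).1 (y' m).2)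
  refine ⟨fun n => (y' n).1, fun n => ?_, hcomp⟩
  obtain ⟨x, hx, hxy⟩ := (y' n).2
  show (y' n).1 ∈ X n
  rw [← hxy]
  exact hmap _ _ _ x hx

variable {N : Type u} [AddCommGroup N] [Module R N] {a b : ℕ}

/-- Evaluation of a tuple on generators. -/
noncomputable def evalGen (V : Type u) [AddCommGroup V] [Module R V] (q : (Fin b → R) →ₗ[R] N) :
    (Fin b → V) →ₗ[R] V ⊗[R] N :=
  q.lTensor V ∘ₗ (piScalarRight R R V (Fin b)).symm.toLinearMap

/-- The relations. -/
noncomputable def relMap (V : Type u) [AddCommGroup V] [Module R V]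
    (d : (Fin a → R) →ₗ[R] (Fin b → R)) : (Fin a → V) →ₗ[R] (Fin b → V) :=
  (piScalarRight R R V (Fin b)).toLinearMap ∘ₗ d.lTensor V ∘ₗ
    (piScalarRight R R V (Fin a)).symm.toLinearMap

theorem evalGen_surjective (V : Type u) [AddCommGroup V] [Module R V]
    {q : (Fin b → R) →ₗ[R] N} (hq : Function.Surjective q) :
    Function.Surjective (evalGen V q) :=
  (LinearMap.lTensor_surjective V hq).comp (LinearEquiv.surjective _)

theorem evalGen_exact (V : Type u) [AddCommGroup V] [Module R V]
    {q : (Fin b → R) →ₗ[R] N} (hq : Function.Surjective q)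
    {d : (Fin a → R) →ₗ[R] (Fin b → R)} (hd : Function.Exact d q) :
    Function.Exact (relMap V d) (evalGen V q) := by
  intro x
  have h := lTensor_exact V hd hq ((piScalarRight R R V (Fin b)).symm x)
  refine Iff.trans h ⟨?_, ?_⟩
  · rintro ⟨y, hy⟩
    refine ⟨piScalarRight R R V (Fin a) y, ?_⟩
    simp only [relMap, LinearMap.comp_apply, LinearEquiv.coe_toLinearMap,
      LinearEquiv.symm_apply_apply, hy, LinearEquiv.apply_symm_apply]
  · rintro ⟨y, rfl⟩
    refine ⟨(piScalarRight R R V (Fin a)).symm y, ?_⟩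
    simp only [relMap, LinearMap.comp_apply, LinearEquiv.coe_toLinearMap,
      LinearEquiv.symm_apply_apply]

theorem evalGen_natural {V V' : Type u} [AddCommGroup V] [Module R V] [AddCommGroup V']
    [Module R V'] (g : V →ₗ[R] V') (q : (Fin b → R) →ₗ[R] N) (x : Fin b → V) :
    g.rTensor N (evalGen V q x) = evalGen V' q (g ∘ x) := by
  obtain ⟨x, rfl⟩ := (piScalarRight R R V (Fin b)).surjective x
  induction x with
  | zero => rw [map_zero, map_zero, map_zero, show g ∘ (0 : Fin b → V) = 0 from funext fun i => map_zero g, map_zero]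
  | tmul v f =>
    have : g ∘ (piScalarRight R R V (Fin b) (v ⊗ₜ f)) =
        piScalarRight R R V' (Fin b) (g v ⊗ₜ f) := by
      ext i
      simp
    rw [this]
    simp only [evalGen, LinearMap.comp_apply, LinearEquiv.coe_toLinearMap,
      LinearEquiv.symm_apply_apply, LinearMap.lTensor_tmul, LinearMap.rTensor_tmul]
  | add x y hx hy =>
    rw [map_add, map_add, map_add, hx, hy, ← map_add]
    congr 1
    ext i
    simp

theorem relMap_natural {V V' : Type u} [AddCommGroup V] [Module R V] [AddCommGroup V']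
    [Module R V'] (g : V →ₗ[R] V') (d : (Fin a → R) →ₗ[R] (Fin b → R)) (y : Fin a → V) :
    g ∘ relMap V d y = relMap V' d (g ∘ y) := by
  obtain ⟨y, rfl⟩ := (piScalarRight R R V (Fin a)).surjective y
  induction y with
  | zero => rw [map_zero, map_zero, show g ∘ (0 : Fin b → V) = 0 from funext fun i => map_zero g,
      show g ∘ (0 : Fin a → V) = 0 from funext fun i => map_zero g, map_zero]
  | tmul v f =>
    have : g ∘ (piScalarRight R R V (Fin a) (v ⊗ₜ f)) =
        piScalarRight R R V' (Fin a) (g v ⊗ₜ f) := by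
      ext i
      simp
    rw [this]
    simp only [relMap, LinearMap.comp_apply, LinearEquiv.coe_toLinearMap,
      LinearEquiv.symm_apply_apply, LinearMap.lTensor_tmul]
    ext i
    simp
  | add x y hx hy =>
    have e : ∀ (u w : Fin b → V), g ∘ (u + w) = g ∘ u + g ∘ w := fun u w => by ext; simp
    have e' : ∀ (u w : Fin a → V), g ∘ (u + w) = g ∘ u + g ∘ w := fun u w => by ext; simp
    rw [map_add, map_add, e, hx, hy, e', map_add]

variable (M : ℕᵒᵖ ⥤ ModuleCat.{u} R)

theorem exists_limit_mk (x : ∀ n : ℕ, M.obj (Opposite.op n))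
    (hx : ∀ n m (h : n ≤ m), (M.map (homOfLE h).op).hom (x m) = x n) :
    ∃ ℓ : ↑(limit M), ∀ n : ℕ, (limit.π M (Opposite.op n)).hom ℓ = x n := by
  let c : Cone M :=
    { pt := ModuleCat.of R R
      π :=
        { app := fun n => ModuleCat.ofHom (LinearMap.toSpanSingleton R _ (x n.unop))
          naturality := fun n m f => by
            ext
            have h := (hx m.unop n.unop f.unop.le).symm
            rw [show (homOfLE f.unop.le).op = f from Subsingleton.elim _ _] at h
            simpa using h } }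
  refine ⟨(limit.lift M c).hom (1 : R), fun n => ?_⟩
  have := ConcreteCategory.congr_hom (limit.lift_π c (Opposite.op n)) (1 : R)
  refine this.trans ?_
  show LinearMap.toSpanSingleton R _ (x n) 1 = x n
  simp

theorem main (M : ℕᵒᵖ ⥤ ModuleCat.{u} R) (hM : ∀ n : ℕᵒᵖ, IsFiniteLength R (M.obj n))
    (N : Type u) [AddCommGroup N] [Module R N] [Module.FinitePresentation R N] :
    IsIso (limit.post M (tensorRight (ModuleCat.of R N))) := by
  obtain ⟨b, q, hq, hqfg⟩ : ∃ (b : ℕ) (q : (Fin b → R) →ₗ[R] N),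
      Function.Surjective q ∧ (LinearMap.ker q).FG := by
    obtain ⟨b, q, hq⟩ := Module.Finite.exists_fin' R N
    exact ⟨b, q, hq, Module.FinitePresentation.fg_ker q hq⟩
  obtain ⟨a, d, hd⟩ : ∃ (a : ℕ) (d : (Fin a → R) →ₗ[R] (Fin b → R)), Function.Exact d q := by
    obtain ⟨a, k, hk⟩ := Submodule.fg_iff_exists_fin_generating_family.1 hqfg
    refine ⟨a, Fintype.linearCombination R k, LinearMap.exact_iff.2 ?_⟩
    rw [Fintype.range_linearCombination, hk]
  have hart : ∀ n, IsArtinian R (M.obj (Opposite.op n)) := fun n =>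
    (isFiniteLength_iff_isNoetherian_isArtinian.1 (hM _)).2
  let t : ∀ n m : ℕ, n ≤ m → (M.obj (Opposite.op m) →ₗ[R] M.obj (Opposite.op n)) :=
    fun n m h => (M.map (homOfLE h).op).hom
  have ht₁ : ∀ n x, t n n le_rfl x = x := fun n x => by
    show (M.map (homOfLE (le_refl n)).op).hom x = x
    rw [show (homOfLE (le_refl n)).op = 𝟙 (Opposite.op n) from Subsingleton.elim _ _,
      M.map_id]
    rfl
  have ht : ∀ n m l (h : n ≤ m) (h' : m ≤ l) x, t n m h (t m l h' x) = t n l (h.trans h') x :=
    fun n m l h h' x => by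
      show _ = (M.map (homOfLE (h.trans h')).op).hom x
      rw [show (homOfLE (h.trans h')).op = (homOfLE h').op ≫ (homOfLE h).op from
        Subsingleton.elim _ _, M.map_comp]
      rfl
  let π : ∀ n, ↑(limit M) →ₗ[R] M.obj (Opposite.op n) := fun n => (limit.π M (Opposite.op n)).hom
  have hπ : ∀ n m h ℓ, t n m h (π m ℓ) = π n ℓ := fun n m h ℓ =>
    ConcreteCategory.congr_hom (limit.w M (homOfLE h).op) ℓ
  let P := limit.post M (tensorRight (ModuleCat.of R N))
  have hP : ∀ (n : ℕ) (x : ↑(limit M) ⊗[R] N),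
      (limit.π (M ⋙ tensorRight (ModuleCat.of R N)) (Opposite.op n)).hom (P.hom x) =
        (π n).rTensor N x := fun n x =>
    ConcreteCategory.congr_hom (limit.post_π M (tensorRight (ModuleCat.of R N)) (Opposite.op n)) x
  rw [ConcreteCategory.isIso_iff_bijective]
  refine ⟨?_, fun z => ?_⟩
  · refine (injective_iff_map_eq_zero P.hom).2 fun x hx => ?_
    obtain ⟨x, rfl⟩ := evalGen_surjective (↑(limit M)) hq x
    have h0 : ∀ n, evalGen _ q (π n ∘ x) = 0 := fun n => by
      rw [← evalGen_natural, ← hP, hx, map_zero]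
    obtain ⟨y, hy, hyc⟩ := exists_compatible (V := fun n => Fin a → M.obj (Opposite.op n))
      (fun n m h => (t n m h).compLeft (Fin a)) (fun n x => funext fun i => ht₁ n _)
      (fun n m l h h' x => funext fun i => ht n m l h h' _)
      (fun n => LinearMap.ker (relMap _ d))
      (fun n => {y | relMap _ d y = π n ∘ x})
      (fun n => (evalGen_exact _ hq hd (π n ∘ x)).1 (h0 n))
      (fun n y y' hy => by
        simp only [Set.mem_setOf_eq, LinearMap.mem_ker, map_sub, sub_eq_zero] at hy ⊢
        rw [hy])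
      (fun n m h y hy => by
        simp only [Set.mem_setOf_eq] at hy ⊢
        rw [show (t n m h).compLeft (Fin a) y = t n m h ∘ y from rfl, ← relMap_natural, hy]
        exact funext fun i => hπ n m h (x i))
    choose ℓ hℓ using fun i => exists_limit_mk M (fun n => y n i)
      (fun n m h => congrFun (hyc n m h) i)
    refine (evalGen_exact _ hq hd x).2 ⟨ℓ, funext fun i => Concrete.limit_ext M _ _ fun n => ?_⟩
    have := congrFun ((relMap_natural (π n.unop) d ℓ).trans
      ((congrArg (relMap _ d) (funext fun j => hℓ j n.unop)).trans (hy n.unop))) i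
    exact this
  · let zn : ∀ n, ↑(M.obj (Opposite.op n)) ⊗[R] N := fun n =>
      (limit.π (M ⋙ tensorRight (ModuleCat.of R N)) (Opposite.op n)).hom z
    have hzn : ∀ n m h, (t n m h).rTensor N (zn m) = zn n := fun n m h =>
      ConcreteCategory.congr_hom (limit.w (M ⋙ tensorRight (ModuleCat.of R N)) (homOfLE h).op) z
    obtain ⟨x, hx, hxc⟩ := exists_compatible (V := fun n => Fin b → M.obj (Opposite.op n))
      (fun n m h => (t n m h).compLeft (Fin b)) (fun n x => funext fun i => ht₁ n _)
      (fun n m l h h' x => funext fun i => ht n m l h h' _)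
      (fun n => LinearMap.ker (evalGen _ q))
      (fun n => {x | evalGen _ q x = zn n})
      (fun n => evalGen_surjective _ hq (zn n))
      (fun n y y' hy => by
        simp only [Set.mem_setOf_eq, LinearMap.mem_ker, map_sub, sub_eq_zero] at hy ⊢
        rw [hy])
      (fun n m h y hy => by
        simp only [Set.mem_setOf_eq] at hy ⊢
        rw [show (t n m h).compLeft (Fin b) y = t n m h ∘ y from rfl, ← evalGen_natural, hy, hzn])
    choose ℓ hℓ using fun i => exists_limit_mk M (fun n => x n i)
      (fun n m h => congrFun (hxc n m h) i)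
    refine ⟨evalGen _ q ℓ, Concrete.limit_ext (M ⋙ tensorRight (ModuleCat.of R N)) _ _
      fun n => ?_⟩
    refine (hP n.unop _).trans ?_
    rw [evalGen_natural, show π n.unop ∘ ℓ = x n.unop from funext fun j => hℓ j n.unop, hx n.unop]

end LimTensorLib
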